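import Cfsg.Agent.H116.RatB0.RowRgd
import Cfsg.Agent.H778.ExcTwTor
import Cfsg.Agent.Nodes.RGDTwE6
import Cfsg.Agent.Prune
set_option linter.all false
prune_inst 0x7f00000000000000000000000000000000000000000000000000000000000000000000000000000000000000000000000000000000000000000000000000000000000000000000000000000000000000003fffffffffffffffffffffffffffbeffbdffffffff
open scoped Cfsg.Agent.FastGrp

-- part: H781/RatTE6/CentA
section
/-!
# S4891, the row of `²E₆(q)`, `p ∣ q - 1` (helper781)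

The centralizer of the `p`-torsion of the torus is the torus.
-/

set_option autoImplicit false
set_option linter.unusedSectionVars false

namespace Cfsg.Agent.H781.RatTE6

open CoxeterSystem Cfsg Cfsg.Lie Cfsg.Lie.ChevalleyDatum
open Cfsg.Agent.ChevalleyStructure Cfsg.Agent.ChevalleyStructure.Elts Cfsg.Agent.ChevalleyStructure.CoxeterGeom
  Cfsg.Agent.ChevalleyStructure.CoxeterGeomTypes Cfsg.Agent.ChevalleyStructure.NPerm
  Cfsg.Agent.ChevalleyStructure.RootVec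
open Cfsg.Agent.Tits.Roots Cfsg.Agent.Tits.Core Cfsg.Agent.Nodes Cfsg.Agent.Nodes.Reps Cfsg.Agent.Nodes.BNOf
  Cfsg.Agent.Nodes.RGDChev Cfsg.Agent.Nodes.Bruhat Cfsg.Agent.Nodes.NormalForm
open Cfsg.Agent.KFacts.RgdField Cfsg.Agent.KFacts.RgdChevCoord Cfsg.Agent.BpExc.TorCent Cfsg.Agent.BpExc.TorChev
open Cfsg.Agent.GpExc.Field Cfsg.Agent.BpExc.Tow Cfsg.Agent.BpExc.TowChev Cfsg.Agent.BpExc.Fr
  Cfsg.Agent.BpExc.LangFr Cfsg.Agent.LangThm Cfsg.Agent.BpExc Cfsg.Agent.H129.TorusChar Cfsg.Agent.H778.Exc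

universe u

/-! ### the centralizer of a subset of the torus -/

section

variable {I W : Type*} {S : Type*} [Fintype I] [DecidableEq I] [Group W] [Group S] {M : CoxeterMatrix I}
  {cs : CoxeterSystem M W} {A : I → I → ℤ} {h : IsCartan M A} {r : ℕ} {T : Subgroup S} {n : I → S}
  {X : (I → ℤ) → Subgroup S} (R : RGD cs h r T n X)

include R

/-- a set of torus elements with centralizer in the torus -/
theorem cent_le_T [Finite W] (hG : GG cs h T X = ⊤) {Q : Set S} (hQT : Q ⊆ T)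
    (hU : ∀ x, IsRoot cs h x → 0 ≤ x → ∀ u ∈ X x, (∀ q ∈ Q, q * u = u * q) → u = 1)
    (hW : ∀ (w : W) (k : S), Rp cs R.nsys w k → (∀ q ∈ Q, q * k = k * q) → w = 1) :
    Subgroup.centralizer Q ≤ T := by
  intro g hg
  obtain ⟨u, hu, w, k, hk, hkc, v, hv, rfl⟩ := mem_centralizer R (S := Q) hQT
    (by rw [hG]; exact Subgroup.mem_top g) hg
  have h1 : RGD.Sup (fun x => X x ⊓ Subgroup.centralizer Q) (RGD.Pos cs h) ≤ ⊥ := by
    refine RGD.Sup_le fun x hx => ?_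
    intro y hy
    rw [Subgroup.mem_bot]
    exact hU x hx.1 hx.2 y hy.1 fun q hq => Subgroup.mem_centralizer_iff.1 hy.2 q hq
  have hu1 : u = 1 := Subgroup.mem_bot.1 (h1 hu)
  have hv1 : v = 1 := Subgroup.mem_bot.1 (h1 hv)
  have hw := hW w k hk fun q hq => Subgroup.mem_centralizer_iff.1 hkc q hq
  subst hw
  rw [hu1, hv1, one_mul, mul_one]
  exact hk.mem_of_one

end

/-! ### the coroots and the roots of `E₆` -/

/-- the exponents -/
def be : Fin 4 → Fin 6 → ℕ := ![![0, 1, 0, 0, 0, 0], ![0, 0, 0, 1, 0, 0], ![0, 0, 1, 0, 1, 0], ![1, 0, 0, 0, 0, 1]]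

/-- the values on the simple roots -/
def pm : Fin 4 → Fin 6 → ℤ := ![![0, 2, 0, -1, 0, 0], ![0, -1, -1, 2, -1, 0], ![-1, 0, 2, -2, 2, -1],
  ![2, 0, -1, 0, -1, 2]]

theorem pm_eq : ∀ i m, ∑ j, (be i j : ℤ) * cartanOf chevE6 6 j m = pm i m := by decide +kernel

/-- the value on a vector -/
def ev (i : Fin 4) (x : Fin 6 → ℤ) : ℤ := ∑ m, x m * pm i m

theorem ev_add (i : Fin 4) (x y : Fin 6 → ℤ) : ev i (x + y) = ev i x + ev i y := by
  unfold ev
  rw [← Finset.sum_add_distrib]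
  exact Finset.sum_congr rfl fun m _ => by rw [Pi.add_apply, add_mul]

theorem ev_zero (i : Fin 4) : ev i 0 = 0 := by
  unfold ev
  simp

theorem ev_sr (i : Fin 4) (m : Fin 6) : ev i (sr m) = pm i m := by
  unfold ev
  rw [Finset.sum_eq_single m]
  · rw [sr_self, one_mul]
  · intro j _ hj
    rw [sr_ne hj, zero_mul]
  · intro hm
    exact absurd (Finset.mem_univ m) hm

theorem chk1 : ∀ r : Fin chevE6.nroots, ∃ i : Fin 4, ev i (vec chevE6 6 r) ≠ 0 := by decide +kernel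

theorem chk2 : ∀ r : Fin chevE6.nroots, ∀ i : Fin 4, -2 ≤ ev i (vec chevE6 6 r) ∧ ev i (vec chevE6 6 r) ≤ 2 := by
  decide +kernel

theorem chk3 : ∀ r : Fin chevE6.nroots, ∀ m : Fin 6, (∀ i : Fin 4, ev i (vec chevE6 6 r) - pm i m = 0 ∨
    ev i (vec chevE6 6 r) - pm i m = 3 ∨ ev i (vec chevE6 6 r) - pm i m = -3) → ∀ j : Fin 6, 0 ≤ vec chevE6 6 r j := by
  decide +kernel

theorem pm_bd : ∀ i m, -2 ≤ pm i m ∧ pm i m ≤ 2 := by decide +kernel

/-! ### the torus elements -/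

section

variable {k : Type u} [Field k]

/-- the torus elements -/
noncomputable def st (z : k) (i : Fin 4) : ↥(chevE6.group k) :=
  (([1, 3, 2, 4, 0, 5] : List (Fin 6)).map (fun j => hc type_E6 j (z ^ be i j))).prod

variable {z : k} (hz : z ≠ 0) (i : Fin 4)

include hz

theorem st_mem : st z i ∈ TT chevE6 k := prod_hc_mem type_E6 _ fun _ => pow_ne_zero _ hz

theorem isMC_zpow : IsMC (fun x => z ^ ev i x) where
  zero := by
    show z ^ ev i 0 = 1
    rw [ev_zero, zpow_zero]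
  add x y := by
    show z ^ ev i (x + y) = z ^ ev i x * z ^ ev i y
    rw [ev_add, zpow_add₀ hz]

theorem cX_st (x : Fin 6 → ℤ) : cX type_E6 (st z i) x = z ^ ev i x := by
  refine (isMC_cX type_E6 (st_mem hz i)).ext (isMC_zpow hz i) (fun m => ?_) x
  show cX type_E6 (st z i) (sr m) = z ^ ev i (sr m)
  unfold st
  rw [cX_prod_hc type_E6 _ (c := fun j => z ^ be i j) (fun _ => pow_ne_zero _ hz), ev_sr, ← pm_eq]
  simp only [← zpow_natCast, ← zpow_mul, List.map_cons, List.map_nil, List.prod_cons, List.prod_nil, mul_one,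
    ← zpow_add₀ hz]
  congr 1
  simp only [Fin.sum_univ_succ, Fin.sum_univ_zero]
  simp only [Fin.succ_zero_eq_one, Fin.isValue]
  have e2 : (1 : Fin 5).succ = (2 : Fin 6) := rfl
  have e3 : (1 : Fin 4).succ.succ = (3 : Fin 6) := rfl
  have e4 : (1 : Fin 3).succ.succ.succ = (4 : Fin 6) := rfl
  have e5 : (1 : Fin 2).succ.succ.succ.succ = (5 : Fin 6) := rfl
  simp only [e2, e3, e4, e5]
  ring

theorem st_pow {p : ℕ} (hzp : z ^ p = 1) : st z i ^ p = 1 := by
  refine cX_inj type_E6 (pow_mem (st_mem hz i) p) (one_mem _) fun m => ?_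
  rw [cX_pow type_E6 (st_mem hz i), cX_st hz, cX_one, ← zpow_natCast, ← zpow_mul, mul_comm, zpow_mul, zpow_natCast, hzp,
    one_zpow]

end

/-! ### the centralizer in `E₆(q²)` -/

section

variable {K : Type u} [Field K] [Finite K] {p : ℕ}

theorem locFin_of_finite : LocFin K := by
  obtain ⟨r, hr⟩ := CharP.exists K
  have : Fact r.Prime := ⟨CharP.char_is_prime K r⟩
  let _ := ZMod.algebra K r
  have : Algebra.IsAlgebraic (ZMod r) K := Algebra.IsAlgebraic.of_finite _ _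
  exact locFin_of_isAlgebraic r K

theorem small {p : ℕ} (hp3 : 3 ≤ p) {d : ℤ} (hd : (p : ℤ) ∣ d) (h1 : -4 ≤ d) (h2 : d ≤ 4) (hp4 : p ≠ 4) :
    d = 0 ∨ d = 3 ∨ d = -3 := by
  obtain ⟨c, rfl⟩ := hd
  have hc1 : -1 ≤ c := by nlinarith
  have hc2 : c ≤ 1 := by nlinarith
  have hc : c = -1 ∨ c = 0 ∨ c = 1 := by omega
  rcases hc with rfl | rfl | rfl
  · right; right; omega
  · left; omega
  · right; left; omega

/-- **The centralizer of the four elements is the torus.** -/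
theorem cent_st (hp : p.Prime) (hp2 : p ≠ 2) {z : K} (hz : IsPrimitiveRoot z p) :
    Subgroup.centralizer (Set.range (st z)) ≤ TT chevE6 K := by
  obtain ⟨r, hr⟩ := CharP.exists K
  have : Fact r.Prime := ⟨CharP.char_is_prime K r⟩
  have hp0 := hp.two_le
  have hp3 : 3 ≤ p := by omega
  have hp4 : p ≠ 4 := by
    rintro rfl
    norm_num at hp
  have hz0 : z ≠ 0 := by
    rintro rfl
    have h1 := hz.pow_eq_one
    rw [zero_pow (by omega)] at h1
    exact zero_ne_one h1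
  let cs := CoxeterMatrix.E₆.toCoxeterSystem
  have hWf : Finite CoxeterMatrix.E₆.Group := finite_W type_E6 cs
  have R := Nodes.RGDChev.rgd (K := K) type_E6 cs r
  have hGG : GG cs type_E6.isCartan (TT chevE6 K) (XX chevE6 6 K) = ⊤ := by
    rw [eq_top_iff, ← Nodes.RGDChev.G1_eq_top type_E6 cs]
    exact le_sup_right
  refine cent_le_T R hGG ?_ ?_ ?_
  · rintro _ ⟨i, rfl⟩
    exact st_mem hz0 i
  · intro x hx _ u hu hc
    obtain ⟨a, ha, rfl⟩ := (isRoot_iff type_E6 cs x).1 hx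
    obtain ⟨t, rfl⟩ := (HX.mem_XX_xc type_E6 ha).1 hu
    obtain ⟨i, hi⟩ := chk1 ⟨a, ha⟩
    have hi' : ev i (vec chevE6 6 a) ≠ 0 := hi
    obtain ⟨h1, h2⟩ := chk2 ⟨a, ha⟩ i
    have h1' : -2 ≤ ev i (vec chevE6 6 a) := h1
    have h2' : ev i (vec chevE6 6 a) ≤ 2 := h2
    have h3 := (act type_E6 ha (st_mem hz0 i)).2 t
    rw [← cX_vec type_E6 (st_mem hz0 i) ha, cX_st hz0, hc _ ⟨i, rfl⟩, mul_inv_cancel_right] at h3
    have h4 := xc_inj type_E6 ha h3
    have h5 : t = 0 := by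
      by_contra ht
      have h6 : z ^ ev i (vec chevE6 6 a) = 1 := by
        have h7 : 1 * t = z ^ ev i (vec chevE6 6 a) * t := by rw [one_mul]; exact h4
        exact (mul_right_cancel₀ ht h7).symm
      rw [hz.zpow_eq_one_iff_dvd] at h6
      rcases small hp3 h6 (by omega) (by omega) hp4 with h | h | h <;> omega
    rw [h5]
    apply Subtype.ext
    rw [coe_xc type_E6 ha]
    exact Elts.xG_zero _ _
  · intro w k hk hc
    refine ChevalleyStructure.CoxeterGeom.eq_one_of_nonneg cs type_E6.isCartan w fun m => ?_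
    have hroot : IsRoot cs type_E6.isCartan (rep cs type_E6.isCartan w (sr m)) := (isRoot_sr _ _ m).act w
    obtain ⟨a, ha, hae⟩ := (isRoot_iff type_E6 cs _).1 hroot
    have h3 := chk3 ⟨a, ha⟩ m (fun i => ?_)
    · show 0 ≤ rep cs type_E6.isCartan w (sr m)
      rw [← hae]
      intro j
      exact h3 j
    · have h4 := cX_rp type_E6 cs locFin_of_finite r hk (st_mem hz0 i) (sr m)
      have h5 : k * st z i * k⁻¹ = st z i := by
        rw [← hc _ ⟨i, rfl⟩, mul_inv_cancel_right]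
      rw [h5, cX_st hz0, cX_st hz0, ← hae, ev_sr] at h4
      obtain ⟨h1, h2⟩ := chk2 ⟨a, ha⟩ i
      have h1' : -2 ≤ ev i (vec chevE6 6 a) := h1
      have h2' : ev i (vec chevE6 6 a) ≤ 2 := h2
      obtain ⟨h6, h7⟩ := pm_bd i m
      have h8 : z ^ (ev i (vec chevE6 6 a) - pm i m) = 1 := by
        rw [zpow_sub₀ hz0, h4, div_self (zpow_ne_zero _ hz0)]
      rw [hz.zpow_eq_one_iff_dvd] at h8
      exact small hp3 h8 (by omega) (by omega) hp4

end

end Cfsg.Agent.H781.RatTE6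
end

-- part: H781/RatTE6/RowA
section
/-!
# S4891, the row of `²E₆(q)`, `p ∣ q - 1`: the row (helper781)
-/

set_option autoImplicit false
set_option linter.unusedSectionVars false

namespace Cfsg.Agent.H781.RatTE6

open CoxeterSystem Cfsg Cfsg.Lie Cfsg.Lie.ChevalleyDatum
open Cfsg.Agent.ChevalleyStructure Cfsg.Agent.ChevalleyStructure.Elts Cfsg.Agent.ChevalleyStructure.CoxeterGeom
  Cfsg.Agent.ChevalleyStructure.CoxeterGeomTypes Cfsg.Agent.ChevalleyStructure.NPerm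
  Cfsg.Agent.ChevalleyStructure.RootVec
open Cfsg.Agent.Tits.Roots Cfsg.Agent.Tits.Core Cfsg.Agent.Nodes Cfsg.Agent.Nodes.Reps Cfsg.Agent.Nodes.BNOf
  Cfsg.Agent.Nodes.RGDChev Cfsg.Agent.Nodes.Bruhat Cfsg.Agent.Nodes.NormalForm Cfsg.Agent.Nodes.StabComb
  Cfsg.Agent.Nodes.OppDec Cfsg.Agent.Nodes.LeviDec
open Cfsg.Agent.KFacts.RgdField Cfsg.Agent.KFacts.RgdChevCoord Cfsg.Agent.BpExc.TorCent Cfsg.Agent.BpExc.TorChev
open Cfsg.Agent.GpExc.Field Cfsg.Agent.BpExc.Tow Cfsg.Agent.BpExc.TowChev Cfsg.Agent.BpExc.Fr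
  Cfsg.Agent.BpExc.LangFr Cfsg.Agent.LangThm Cfsg.Agent.BpExc Cfsg.Agent.H129.TorusChar Cfsg.Agent.H778.Exc
  Cfsg.Agent.H116.RatB0
open Cfsg.Agent.H145.BR (RowInt)

universe u

/-- torus elements commute -/
theorem tt_comm {k : Type u} [Field k] {s t : ↥(chevE6.group k)} (hs : s ∈ TT chevE6 k) (ht : t ∈ TT chevE6 k) :
    s * t = t * s :=
  cX_inj type_E6 (mul_mem hs ht) (mul_mem ht hs) fun i => by
    rw [cX_mul type_E6 hs ht, cX_mul type_E6 ht hs, mul_comm]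

theorem be_t6 : ∀ (i : Fin 4) (j : Fin 6), be i (t6 j) = be i j := by decide +kernel

section

variable {K : Type u} [Field K] {q : ℕ}

/-- the inclusion -/
def inc (g : ↥(twistedE6 K q)) : ↥(chevE6.group K) := ⟨g, genSubgroup_le_group type_E6.inList (e6Words K q) g.2⟩

theorem inc_mul (g h : ↥(twistedE6 K q)) : inc (g * h) = inc g * inc h := rfl

theorem inc_inj {g h : ↥(twistedE6 K q)} (e : inc g = inc h) : g = h :=
  Subtype.ext (congrArg (Subtype.val : ↥(chevE6.group K) → GL chevE6.Idx K) e)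

theorem inc_mem {g : ↥(twistedE6 K q)} : inc g ∈ TT chevE6 K ↔ g ∈ Nodes.RGDTwE6.T K q := by
  unfold Nodes.RGDTwE6.T
  rw [Subgroup.mem_subgroupOf, Subgroup.mem_subgroupOf, Subgroup.mem_inf]
  exact ⟨fun h => ⟨h, g.2⟩, fun h => h.1⟩

/-- the `p`-torsion of the torus -/
def tor (K : Type u) [Field K] (q p : ℕ) : Subgroup ↥(twistedE6 K q) where
  carrier := {t | t ∈ Nodes.RGDTwE6.T K q ∧ t ^ p = 1}
  one_mem' := ⟨one_mem _, one_pow p⟩
  mul_mem' := by
    rintro a b ⟨ha, ha'⟩ ⟨hb, hb'⟩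
    refine ⟨mul_mem ha hb, ?_⟩
    have h1 : Commute a b := inc_inj (tt_comm (inc_mem.2 ha) (inc_mem.2 hb))
    rw [h1.mul_pow, ha', hb', one_mul]
  inv_mem' := by
    rintro a ⟨ha, ha'⟩
    exact ⟨inv_mem ha, by rw [inv_pow, ha', inv_one]⟩

theorem isPGroup_tor (p : ℕ) : IsPGroup p (tor K q p) := by
  intro t
  exact ⟨1, Subtype.ext (by rw [pow_one]; exact t.2.2)⟩

variable [Fintype K]

/-- **The centralizer of the `p`-torsion of the torus.** -/
theorem cent_tor {φ : K →+* K} (hφ : ∀ x, φ x = x ^ q) {p : ℕ} (hp : p.Prime) (hp2 : p ≠ 2) {z : K}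
    (hz : IsPrimitiveRoot z p) (hzq : z ^ q = z) :
    Subgroup.centralizer (tor K q p : Set ↥(twistedE6 K q)) ≤ Nodes.RGDTwE6.T K q := by
  have hz0 : z ≠ 0 := by
    rintro rfl
    have h1 := hz.pow_eq_one
    rw [zero_pow hp.ne_zero] at h1
    exact zero_ne_one h1
  intro c hc
  rw [← inc_mem]
  apply cent_st hp hp2 hz
  rw [Subgroup.mem_centralizer_iff]
  rintro _ ⟨i, rfl⟩
  have h1 : ((st z i : ↥(chevE6.group K)) : GL chevE6.Idx K) ∈ twistedE6 K q :=
    prod_mem_twE6 hφ (c := fun j => z ^ be i j) fun j => by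
      show z ^ be i (t6 j) = (z ^ be i j) ^ q
      rw [be_t6, ← pow_mul, mul_comm, pow_mul, hzq]
  obtain ⟨s, hs⟩ : ∃ s : ↥(twistedE6 K q), inc s = st z i := ⟨⟨_, h1⟩, rfl⟩
  have h2 : s ∈ tor K q p := by
    refine ⟨inc_mem.1 (by rw [hs]; exact st_mem hz0 i), ?_⟩
    apply inc_inj
    have h3 : ∀ n : ℕ, inc (s ^ n) = inc s ^ n := fun n => rfl
    rw [h3, hs, st_pow hz0 i hz.pow_eq_one]
    rfl
  have h3 := Subgroup.mem_centralizer_iff.1 hc s h2
  rw [← hs, ← inc_mul, ← inc_mul, h3]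

variable {r f : ℕ} (hr : r.Prime) (hf : f ≠ 0) (hq : q = r ^ f) [CharP K r] {φ : K →+* K}
  (hφ : ∀ x, φ x = x ^ q) (hqq : ∀ t : K, (t ^ q) ^ q = t) (hK : Fintype.card K = q ^ 2)

include hr hf hq hφ hqq hK

/-- **The row for `p ∣ q - 1`.** -/
theorem row_A {p : ℕ} [hp : Fact p.Prime] (hp2 : p ≠ 2) (hpr : p ≠ r) (h : p ∣ q - 1) :
    RowInt p ↥(twistedE6 K q) := by
  have : Fact r.Prime := ⟨hr⟩
  have hq1 : 1 ≤ q := by rw [hq]; exact Nat.one_le_pow _ _ hr.pos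
  have hpu : p ∣ Nat.card Kˣ := by
    rw [Nat.card_units, Nat.card_eq_fintype_card, hK]
    have e : q ^ 2 - 1 = (q - 1) * (q + 1) := by
      obtain ⟨x, hx⟩ := Nat.exists_eq_add_of_le hq1
      rw [hx, Nat.add_sub_cancel_left]
      apply Nat.sub_eq_of_eq_add
      ring
    rw [e]
    exact h.mul_right _
  obtain ⟨z, hz⟩ := exists_prime_orderOf_dvd_card' p hpu
  have hz1 : IsPrimitiveRoot (z : K) p := by
    rw [IsPrimitiveRoot.coe_units_iff, ← hz]
    exact IsPrimitiveRoot.orderOf z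
  have hzq : (z : K) ^ q = z := by
    obtain ⟨m, hm⟩ := h
    have e : q = p * m + 1 := by omega
    rw [e, pow_succ, pow_mul, hz1.pow_eq_one, one_pow, one_mul]
  have hfin : Finite CoxeterMatrix.F₄.Group := Nodes.RGDFold.finite_W (hp := Nodes.RGDTwE6.hp)
    CoxeterMatrix.F₄.toCoxeterSystem Nodes.RGDTwE6.isCartan Nodes.RGDTwE6.foldData
  have R := Nodes.RGDTwE6.rgd CoxeterMatrix.F₄.toCoxeterSystem hφ hqq r
  have hGG : GG CoxeterMatrix.F₄.toCoxeterSystem Nodes.RGDTwE6.isCartan (Nodes.RGDTwE6.T K q)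
      (Nodes.RGDTwE6.X φ q) = ⊤ := by
    rw [eq_top_iff, ← Nodes.RGDTwE6.G1_eq_top CoxeterMatrix.F₄.toCoxeterSystem hφ hqq]
    exact le_sup_right
  have hT : tor K q p ≤ Nodes.RGDTwE6.T K q := fun t ht => ht.1
  exact rowInt_of R hGG hpr fun _ _ => Or.inr (reg_modEq_of_le (isPGroup_tor p) ((hT.trans RGD.T_le_B).trans B_le_PJ)
    (((cent_tor hφ hp.out hp2 hz1 hzq).trans RGD.T_le_B).trans B_le_PJ))

end

end Cfsg.Agent.H781.RatTE6
end
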