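import Cfsg.Agent.H116.RatB0.RowRgd
import Cfsg.Agent.H631.Fpf.CardTw
import Cfsg.Agent.Lib.RingK
import Cfsg.Agent.Prune
set_option linter.all false
open scoped Cfsg.Agent.FastGrp

/-!
# S4891, the row of `²E₆(q)`, `p ∤ q - 1`, `p ∤ q⁴ + 1`: the indices of the parabolic subgroups (helper781)
-/

set_option autoImplicit false
set_option linter.unusedSectionVars false

namespace Cfsg.Agent.H781.RatTE6

open CoxeterSystem Cfsg.Agent.ChevalleyStructure.CoxeterGeom Cfsg.Agent.Tits.Roots Cfsg.Agent.Tits.Core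
  Cfsg.Agent.Tits.RootComb Cfsg.Agent.Nodes.Comb Cfsg.Agent.Nodes.Reps Cfsg.Agent.Nodes.BNOf
  Cfsg.Agent.Nodes.StabComb Cfsg.Agent.Nodes.Bruhat Cfsg.Agent.Nodes.LeviDec Cfsg.Agent.H35.Poin
  Cfsg.Agent.H35.PoinNum Cfsg.Agent.H35.ExcIdx
open Cfsg.Lie Cfsg.Agent.ChevalleyStructure Cfsg.Agent.ChevalleyStructure.TwE6BN
open Cfsg.Agent.ChevalleyStructure.TwE6Basic (posE negE sg fix n exists_frob twisted_le_fix)
open Cfsg.Agent.H116.RatB0
open Cfsg.Agent.H145.BR (RowInt)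

universe u

/-! ### numbers -/

/-- the common factor of the indices -/
def cz (q : ℤ) : ℤ := (q + 1) * (q ^ 2 + q + 1) * (q ^ 2 + 1) * (q ^ 2 - q + 1) * (q ^ 4 - q ^ 2 + 1) *
  (q ^ 6 - q ^ 3 + 1)

theorem cast_PT {q : ℕ} (hq1 : 1 ≤ q) : ((PT q : ℕ) : ℤ) = ((q : ℤ) ^ 2 - 1) * ((q : ℤ) ^ 5 + 1) * ((q : ℤ) ^ 6 - 1) *
    ((q : ℤ) ^ 8 - 1) * ((q : ℤ) ^ 9 + 1) * ((q : ℤ) ^ 12 - 1) := by
  unfold PT
  push_cast [Nat.cast_sub (Nat.one_le_pow 2 q hq1), Nat.cast_sub (Nat.one_le_pow 6 q hq1),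
    Nat.cast_sub (Nat.one_le_pow 8 q hq1), Nat.cast_sub (Nat.one_le_pow 12 q hq1)]
  (set_option synthInstance.maxSize 99999 in exact Cfsg.Agent.Lib.RingK.eq (by decide +kernel))

/-- the prime divides the common factor -/
theorem dvd_cz {p q : ℕ} (hp : p.Prime) (hq1 : 1 ≤ q) (hPT : p ∣ PT q) (h1 : ¬ p ∣ q - 1) (h4 : ¬ p ∣ q ^ 4 + 1)
    (h5 : p ∣ q ^ 5 + 1 → p ∣ q + 1) : (p : ℤ) ∣ cz q := by
  have hpz : Prime (p : ℤ) := Nat.prime_iff_prime_int.1 hp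
  have h2 : (p : ℤ) ∣ ((PT q : ℕ) : ℤ) := Int.natCast_dvd_natCast.2 hPT
  rw [cast_PT hq1] at h2
  have h3 : (p : ℤ) ∣ ((q : ℤ) - 1) ^ 4 * ((q : ℤ) ^ 4 + 1) * ((q : ℤ) ^ 5 + 1) * cz q ^ 6 := by
    refine h2.trans ⟨(q + 1) * ((q : ℤ) ^ 2 + q + 1) ^ 4 * ((q : ℤ) ^ 2 + 1) ^ 4 * ((q : ℤ) ^ 2 - q + 1) ^ 3 *
      ((q : ℤ) ^ 4 - (q : ℤ) ^ 2 + 1) ^ 5 * ((q : ℤ) ^ 6 - (q : ℤ) ^ 3 + 1) ^ 5, ?_⟩
    unfold cz
    (set_option synthInstance.maxSize 99999 in exact Cfsg.Agent.Lib.RingK.eq (by decide +kernel))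
  rcases hpz.dvd_or_dvd h3 with h6 | h6
  · rcases hpz.dvd_or_dvd h6 with h7 | h7
    · rcases hpz.dvd_or_dvd h7 with h8 | h8
      · exfalso
        apply h1
        have h9 := hpz.dvd_of_dvd_pow h8
        rw [← Int.natCast_dvd_natCast, Nat.cast_sub hq1]
        exact_mod_cast h9
      · exfalso
        apply h4
        rw [← Int.natCast_dvd_natCast]
        push_cast
        exact h8
    · have h8 : p ∣ q ^ 5 + 1 := by
        rw [← Int.natCast_dvd_natCast]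
        push_cast
        exact h7
      have h9 : (p : ℤ) ∣ (q : ℤ) + 1 := by
        have := Int.natCast_dvd_natCast.2 (h5 h8)
        push_cast at this
        exact this
      unfold cz
      exact (((((h9.mul_right _).mul_right _).mul_right _).mul_right _).mul_right _)
  · exact hpz.dvd_of_dvd_pow h6

theorem idx_zero {p q i : ℕ} (hq2 : 2 ≤ q) (hc : (p : ℤ) ∣ cz q)
    (h : i * ((1 + q ^ 2 + q ^ 4 + q ^ 5 + q ^ 7 + q ^ 9) * ((1 + q + q ^ 3 + q ^ 4) * (1 + q ^ 2))) *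
      ((q - 1) ^ 4 * (q + 1) ^ 2) = PT q) : p ∣ i := by
  have h1 := congrArg (Nat.cast : ℕ → ℤ) h
  rw [cast_PT (by omega)] at h1
  push_cast [Nat.cast_sub (show 1 ≤ q by omega)] at h1
  have hq : (2 : ℤ) ≤ q := by exact_mod_cast hq2
  obtain ⟨x, hx⟩ : ∃ x : ℤ, x = q := ⟨_, rfl⟩
  rw [← hx] at h1 hc hq
  have h2 : ((1 + x ^ 2 + x ^ 4 + x ^ 5 + x ^ 7 + x ^ 9) * ((1 + x + x ^ 3 + x ^ 4) * (1 + x ^ 2))) *
      ((x - 1) ^ 4 * (x + 1) ^ 2) ≠ 0 := by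
    have : 0 < x - 1 := by omega
    have : 0 < x := by omega
    positivity
  have h3 : (i : ℤ) = cz x * (x ^ 4 + 1) := by
    apply mul_right_cancel₀ h2
    unfold cz
    linear_combination (norm := (set_option synthInstance.maxSize 99999 in exact Cfsg.Agent.Lib.RingK.eq (by decide +kernel))) h1
  rw [← Int.natCast_dvd_natCast, h3]
  exact hc.mul_right _

theorem idx_three {p q i : ℕ} (hq2 : 2 ≤ q) (hc : (p : ℤ) ∣ cz q)
    (h : i * ((1 + q + q ^ 2 + q ^ 4 + q ^ 5 + q ^ 6) * ((1 + q + q ^ 3 + q ^ 4) * (1 + q ^ 2))) *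
      ((q - 1) ^ 4 * (q + 1) ^ 2) = PT q) : p ∣ i := by
  have h1 := congrArg (Nat.cast : ℕ → ℤ) h
  rw [cast_PT (by omega)] at h1
  push_cast [Nat.cast_sub (show 1 ≤ q by omega)] at h1
  have hq : (2 : ℤ) ≤ q := by exact_mod_cast hq2
  obtain ⟨x, hx⟩ : ∃ x : ℤ, x = q := ⟨_, rfl⟩
  rw [← hx] at h1 hc hq
  have h2 : ((1 + x + x ^ 2 + x ^ 4 + x ^ 5 + x ^ 6) * ((1 + x + x ^ 3 + x ^ 4) * (1 + x ^ 2))) *
      ((x - 1) ^ 4 * (x + 1) ^ 2) ≠ 0 := by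
    have : 0 < x - 1 := by omega
    have : 0 < x := by omega
    positivity
  have h3 : (i : ℤ) = cz x * ((x ^ 2 - x + 1) * (x ^ 5 + 1)) := by
    apply mul_right_cancel₀ h2
    unfold cz
    linear_combination (norm := (set_option synthInstance.maxSize 99999 in exact Cfsg.Agent.Lib.RingK.eq (by decide +kernel))) h1
  rw [← Int.natCast_dvd_natCast, h3]
  exact hc.mul_right _

/-! ### the row -/

section

variable {K : Type u} [Field K] [Fintype K] {q r f : ℕ} (hr : r.Prime) (hf : f ≠ 0) (hq : q = r ^ f) [CharP K r]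
  {φ : K →+* K} (hφ : ∀ x, φ x = x ^ q) (hqq : ∀ t : K, (t ^ q) ^ q = t) (hK : Fintype.card K = q ^ 2)

include hr hf hq hφ hqq hK

/-- **The row for `p ∤ q - 1`, `p ∤ q⁴ + 1`.** -/
theorem row_B {p : ℕ} [hp : Fact p.Prime] (hpr : p ≠ r) (hpS : p ∣ Nat.card ↥(twistedE6 K q)) (h1 : ¬ p ∣ q - 1)
    (h4 : ¬ p ∣ q ^ 4 + 1) (h5 : p ∣ q ^ 5 + 1 → p ∣ q + 1) : RowInt p ↥(twistedE6 K q) := by
  have : Fact r.Prime := ⟨hr⟩
  have h2 : 2 ≤ q := by rw [hq]; exact two_le hr hf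
  have hpp : IsPrimePow q := by rw [hq]; exact hr.isPrimePow.pow hf
  have hfin : Finite CoxeterMatrix.F₄.Group := Nodes.RGDFold.finite_W (hp := Nodes.RGDTwE6.hp)
    CoxeterMatrix.F₄.toCoxeterSystem Nodes.RGDTwE6.isCartan Nodes.RGDTwE6.foldData
  have R := Nodes.RGDTwE6.rgd CoxeterMatrix.F₄.toCoxeterSystem hφ hqq r
  have hGG : GG CoxeterMatrix.F₄.toCoxeterSystem Nodes.RGDTwE6.isCartan (Nodes.RGDTwE6.T K q)
      (Nodes.RGDTwE6.X φ q) = ⊤ := by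
    rw [eq_top_iff, ← Nodes.RGDTwE6.G1_eq_top CoxeterMatrix.F₄.toCoxeterSystem hφ hqq]
    exact le_sup_right
  have hP : ¬ r ∣ PT q := by
    intro h3
    have h4 : r ∣ pr q [2, 6, 8, 10, 12, 18] := by
      rw [← PT_mul (by omega)]; exact Dvd.dvd.mul_right h3 _
    rw [hq] at h4
    exact not_dvd_pr hr hf _ (by simp) h4
  have hT : Nat.gcd 3 (q + 1) * Nat.card ↥(Nodes.RGDTwE6.T K q) = (q - 1) ^ 4 * (q + 1) ^ 2 := by
    rw [← Cfsg.Agent.S1102.result hpp hK]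
    congr 1
    exact Nat.card_congr (Subgroup.subgroupOfEquivOfLe inf_le_right).toEquiv
  have hd : ¬ r ∣ Nat.gcd 3 (q + 1) := by
    intro h3
    have h4 : r ∣ q + 1 := h3.trans (Nat.gcd_dvd_right _ _)
    have h5 : r ∣ q := by rw [hq]; exact dvd_pow_self r hf
    exact hr.one_lt.ne' (Nat.dvd_one.1 ((Nat.dvd_add_right h5).1 h4))
  have hS : Nat.gcd 3 (q + 1) * Nat.card ↥(twistedE6 K q) = r ^ (f * 36) * PT q := by
    rw [Cfsg.Agent.S1066.result hpp hK, pow_mul, ← hq]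
    unfold PT
    ring
  have hpnr : ¬ p ∣ r := fun h => hpr ((Nat.prime_dvd_prime_iff_eq hp.out hr).1 h)
  have hPT : p ∣ PT q := by
    have h3 : p ∣ r ^ (f * 36) * PT q := by
      rw [← hS]
      exact hpS.mul_left _
    rcases hp.out.dvd_mul.1 h3 with h6 | h6
    · exact absurd (hp.out.dvd_of_dvd_pow h6) hpnr
    · exact h6
  have hc := dvd_cz hp.out (by omega) hPT h1 h4 h5
  refine rowInt_of_index R hGG hpr fun k => ?_
  fin_cases k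
  · have e : ({j | j ≠ (0 : Fin 4)} : Set (Fin 4)) = {j | j ∈ ([1, 2, 3] : List (Fin 4))} := by
      ext j; revert j; decide
    show p ∣ (PJ CoxeterMatrix.F₄.toCoxeterSystem Nodes.RGDTwE6.isCartan (Nodes.RGDTwE6.T K q)
      (Nodes.RGDTwE6.X φ q) {j | j ≠ (0 : Fin 4)}).index
    rw [e]
    exact idx_zero h2 hc (index_eq R hGG (H631.Fpf.CardTw.card_P123 (p := r) hφ hqq (by omega) hK) hd hT hS hP)
  · exact (data_TwE6_1 hr hf hq hφ hqq hK).idx p hp.out hpS hpnr h1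
  · exact (data_TwE6_2 hr hf hq hφ hqq hK).idx p hp.out hpS hpnr h1
  · have e : ({j | j ≠ (3 : Fin 4)} : Set (Fin 4)) = {j | j ∈ ([0, 1, 2] : List (Fin 4))} := by
      ext j; revert j; decide
    show p ∣ (PJ CoxeterMatrix.F₄.toCoxeterSystem Nodes.RGDTwE6.isCartan (Nodes.RGDTwE6.T K q)
      (Nodes.RGDTwE6.X φ q) {j | j ≠ (3 : Fin 4)}).index
    rw [e]
    exact idx_three h2 hc (index_eq R hGG (H631.Fpf.CardTw.card_P012 (p := r) hφ hqq (by omega) hK) hd hT hS hP)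

end

end Cfsg.Agent.H781.RatTE6
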