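import Cfsg.Agent.H788.RatB.Rat_m3
import Cfsg.Agent.H129.WData
import Cfsg.Agent.H83.TorE6
import Cfsg.Agent.H83.TwEC
import Cfsg.Agent.S1066
import Cfsg.Agent.H781.RatTE6.RowA
import Cfsg.Agent.H781.RatTE6.RowB
import Cfsg.Agent.H129.RootFast
import Cfsg.Agent.H953.Dg.Cyc
import Cfsg.Agent.Prune
set_option linter.all false

section
prune_inst 0x7f00000000000000000000000000000000000000000000000000000000000000000000000000000000000000000000000000000000000000000000000000000000000000000000000000000000000000003fffffffffffffffffffffffffffbeffbdffffffff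

-- part: H781/RatTE6/Row
section
set_option linter.all false
open scoped Cfsg.Agent.FastGrp

-- part: H781/RatTE6/Congr
section
/-!
# S4891, the row of `²E₆(q)`: transport and cyclic Sylow subgroups (helper781)

* `rowInt_congr` : `RowInt` along an isomorphism;
* `exists_isCyclic` : a cyclic Sylow `p`-subgroup from an element whose order is divisible by the `p`-part of the
  order of the group.
-/

set_option autoImplicit false

namespace Cfsg.Agent.H781.RatTE6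

open Cfsg Cfsg.Agent.H145.BR Cfsg.Agent.Blocks Cfsg.Agent.Characters.Core

universe u v

/-- **Transport of the row.** -/
theorem rowInt_congr {p : ℕ} {S : Type u} [Group S] [Finite S] {T : Type v} [Group T] (e : S ≃* T)
    (h : RowInt p T) : RowInt p S := by
  intro M hM
  obtain ⟨θ, h1, h2, h3, h4, h5⟩ := h M hM
  refine ⟨⟨_, isIrr_comp (e : S →* T) e.surjective θ.2⟩, H493.RatB.mem_principalBlock_comp e h1, fun h6 => h2 ?_, ?_,
    fun g => h4 (e g), fun a x => ?_⟩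
  · funext y
    obtain ⟨x, rfl⟩ := e.surjective y
    exact congrFun h6 x
  · show ¬ p ∣ charDegree (fun x : S => (θ : T → ℂ) (e x))
    rw [Blocks.Basic.charDegree_def]
    rw [Blocks.Basic.charDegree_def] at h3
    rwa [map_one]
  · have h6 := h5 ((e.symm.trans a).trans e) (e x)
    show (θ : T → ℂ) (e (a x)) = (θ : T → ℂ) (e x)
    rw [← h6]
    show (θ : T → ℂ) (e (a x)) = (θ : T → ℂ) (e (a (e.symm (e x))))
    rw [e.symm_apply_apply]

/-- **A cyclic Sylow subgroup.** -/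
theorem exists_isCyclic {p : ℕ} [hp : Fact p.Prime] {G : Type u} [Group G] [Finite G] (x : G)
    (hx : ∀ n : ℕ, p ^ n ∣ Nat.card G → p ^ n ∣ orderOf x) : ∃ P : Sylow p G, IsCyclic P := by
  obtain ⟨P⟩ : Nonempty (Sylow p G) := inferInstance
  obtain ⟨n, hn⟩ := IsPGroup.iff_card.1 P.isPGroup'
  have h1 : p ^ n ∣ orderOf x := hx n (by rw [← hn]; exact Subgroup.card_subgroup_dvd_card _)
  obtain ⟨m, hm⟩ := h1
  have h0 : 0 < orderOf x := orderOf_pos x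
  have hm0 : m ≠ 0 := by
    rintro rfl
    rw [mul_zero] at hm
    omega
  have h2 : orderOf (x ^ m) = p ^ n := by
    rw [orderOf_pow' x hm0, hm, Nat.gcd_eq_right (Dvd.intro_left _ rfl), Nat.mul_div_cancel _ (by omega)]
  have h3 : Nat.card (Subgroup.zpowers (x ^ m)) = p ^ n := by rw [Nat.card_zpowers, h2]
  have h4 : IsPGroup p (Subgroup.zpowers (x ^ m)) := IsPGroup.of_card h3
  obtain ⟨Q, hQ⟩ := h4.exists_le_sylow
  have h5 : (Q : Subgroup G) = Subgroup.zpowers (x ^ m) := by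
    symm
    apply Subgroup.eq_of_le_of_card_ge hQ
    rw [h3, ← hn]
    exact (Nat.card_congr (Sylow.equiv Q P).toEquiv).le
  refine ⟨Q, ?_⟩
  have h6 : IsCyclic (Subgroup.zpowers (x ^ m)) := inferInstance
  rw [← h5] at h6
  exact h6

end Cfsg.Agent.H781.RatTE6
end

-- part: H781/RatTE6/TwED
section
/-!
# Data of the torus of order `(q⁵ + 1)(q - 1)` of `²E₆(q)` (helper781)

`θ = s₁ s₃ s₄ π`, `π` the symmetry of the diagram, has the characteristic polynomial `(x⁵ + 1)(x - 1)` and a cyclic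
vector.
-/

set_option autoImplicit false

namespace Cfsg.Agent.H781.RatTE6.TwED

open Cfsg.Agent.H129.TorusTw Cfsg.Agent.H129.WData Cfsg.Agent.ChevalleyStructure.CoxeterGeomTypes
  Cfsg.Agent.ChevalleyStructure.RootVec Cfsg.Agent.Nodes.RGDChev
open Cfsg.Lie Cfsg.Lie.ChevalleyDatum

/-- the Cartan matrix -/
def Am : Mat 6 := ![![2, 0, -1, 0, 0, 0],
    ![0, 2, 0, -1, 0, 0],
    ![-1, 0, 2, -1, 0, 0],
    ![0, -1, -1, 2, -1, 0],
    ![0, 0, 0, -1, 2, -1],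
    ![0, 0, 0, 0, -1, 2]]

/-- the partial products -/
def chain : List (Fin 6 × Mat 6) := [
    (0, ![![0, 0, 1, 0, 0, 0],
      ![1, 1, 1, 1, 0, 0],
      ![0, 0, 0, 1, 0, 0],
      ![-1, 0, -1, -1, 0, 0],
      ![1, 0, 1, 1, 1, 0],
      ![0, 0, 0, 0, 0, 1]]),
    (2, ![![1, 0, 1, 0, 0, 0],
      ![0, 1, 1, 1, 0, 0],
      ![0, 0, 0, 1, 0, 0],
      ![0, 0, -1, -1, 0, 0],
      ![0, 0, 1, 1, 1, 0],
      ![0, 0, 0, 0, 0, 1]]),
    (3, ![![1, 0, 0, 0, 0, 0],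
      ![0, 1, 0, 1, 0, 0],
      ![0, 0, 1, 1, 0, 0],
      ![0, 0, 0, -1, 0, 0],
      ![0, 0, 0, 1, 1, 0],
      ![0, 0, 0, 0, 0, 1]])]

/-- the permutation of the simple roots -/
def pi : Fin 6 → Fin 6 := ![5, 1, 4, 3, 2, 0]

/-- the matrix of `θ` -/
def Th : Mat 6 := ![![0, 0, 0, 0, 0, 1],
    ![1, 1, 1, 1, 0, 0],
    ![1, 0, 1, 1, 1, 0],
    ![-1, 0, -1, -1, 0, 0],
    ![0, 0, 0, 1, 0, 0],
    ![0, 0, 1, 0, 0, 0]]

/-- the basis -/
def V : Mat 6 := ![![-1, -1, -1, -1, -1, -1],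
    ![-1, -1, -2, -2, -1, -1],
    ![-1, -1, -2, -2, -2, -1],
    ![-1, -1, -2, -3, -2, -1],
    ![0, -1, -1, -2, -2, -1],
    ![0, -1, -1, -2, -1, 0]]

/-- the coordinates -/
def B : Mat 6 := ![![-1, 1, 0, -1, 1, 0],
    ![-1, 0, 0, 1, 0, -1],
    ![1, -1, -1, 1, 0, 0],
    ![0, 0, 1, -1, 0, 0],
    ![0, 1, -1, 0, 0, 0],
    ![0, -1, 1, 0, -1, 1]]

/-- the polynomial -/
def c : Fin 6 → ℤ := ![-1, 1, 0, 0, 0, -1]

theorem hA : ∀ i j, Am i j = cartanOf chevE6 6 i j :=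
  H129.RootF.cE6

theorem chainOK : ChainOK Am chain :=
  H129.ChainF.ok H129.ChainF.i6 H129.ChainF.m6 (H129.ChainF.c6 <| H129.ChainF.c6 <| H129.ChainF.c6 <| H129.ChainF.nil) (by decide +kernel)

theorem hd_pi : ∀ j, hd chain (pi j) = Th j := by decide +kernel

theorem cycOK : CycOK 6 Th V B c :=
  H129.RootF.cyc H129.ChainF.i6 H129.RootF.t6 H129.ChainF.m6 H129.RootF.t6 H129.ChainF.m6 H129.RootF.t6 H129.RootF.r6 (by decide +kernel)

theorem fN_eq (x : ℤ) : fN c x = (x ^ 5 + 1) * (x - 1) := by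
  unfold fN c
  simp [Fin.sum_univ_succ]
  ring

end Cfsg.Agent.H781.RatTE6.TwED
end

-- part: H781/RatTE6/Cyc
section
/-!
# S4891, the row of `²E₆(q)`: cyclic Sylow subgroups (helper781)

`cyc_one` : `p ∣ q⁴ + 1`; `cyc_two` : `p ∣ q⁵ + 1`, `p ∤ q + 1`.
-/

set_option autoImplicit false

namespace Cfsg.Agent.H781.RatTE6

open CoxeterSystem Cfsg Cfsg.Lie Cfsg.Lie.ChevalleyDatum
open Cfsg.Agent.ChevalleyStructure Cfsg.Agent.ChevalleyStructure.Elts Cfsg.Agent.ChevalleyStructure.CoxeterGeom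
  Cfsg.Agent.ChevalleyStructure.CoxeterGeomTypes Cfsg.Agent.ChevalleyStructure.NPerm
open Cfsg.Agent.Tits.Roots Cfsg.Agent.Tits.Core Cfsg.Agent.Nodes Cfsg.Agent.Nodes.Reps Cfsg.Agent.Nodes.BNOf
  Cfsg.Agent.Nodes.RGDChev Cfsg.Agent.Nodes.Bruhat Cfsg.Agent.Nodes.SubComb Cfsg.Agent.Nodes.Coroot
open Cfsg.Agent.KFacts.RgdField Cfsg.Agent.KFacts.RgdChevCoord Cfsg.Agent.BpExc.TorCent Cfsg.Agent.BpExc.TorChev
open Cfsg.Agent.GpExc.Field Cfsg.Agent.BpExc.Tow Cfsg.Agent.BpExc.TowChev Cfsg.Agent.BpExc.Fr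
  Cfsg.Agent.BpExc.LangFr Cfsg.Agent.LangThm Cfsg.Agent.BpExc Cfsg.Agent.H129.TorusChar Cfsg.Agent.H129.TorusCent
  Cfsg.Agent.H129.TorusTw Cfsg.Agent.H129.TorusMain Cfsg.Agent.H129.TorusUntw Cfsg.Agent.ChevStructure.FieldMap
  Cfsg.Agent.BpExc.EmbSplit Cfsg.Agent.BpExc.EmbInst Cfsg.Agent.H83.TorAut Cfsg.Agent.H129
  Cfsg.Agent.H129.TwE6Fr Cfsg.Agent.H83.RootCount Cfsg.Agent.H83.TorE6

universe u

/-! ### numbers -/

theorem not_dvd_z {p a : ℕ} (h : (a : ZMod p) ≠ 0) : ¬ p ∣ a := fun h1 => h ((ZMod.natCast_eq_zero_iff a p).2 h1)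

theorem cop {p n a : ℕ} (hp : p.Prime) (h : ¬ p ∣ a) : (p ^ n).Coprime a :=
  ((Nat.Prime.coprime_iff_not_dvd hp).2 h).pow_left n

theorem one_le {q : ℕ} (hq1 : 1 ≤ q) (n : ℕ) : 1 ≤ q ^ n := Nat.one_le_pow _ _ hq1

theorem z_sub {p q : ℕ} (hq1 : 1 ≤ q) (n : ℕ) : ((q ^ n - 1 : ℕ) : ZMod p) = (q : ZMod p) ^ n - 1 := by
  rw [Nat.cast_sub (one_le hq1 n)]
  push_cast
  rfl

theorem part_one {p q n : ℕ} (hp : p.Prime) (hp2 : p ≠ 2) (hq1 : 1 ≤ q) (h : p ∣ q ^ 4 + 1)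
    (hn : p ^ n ∣ q ^ 36 * (q ^ 2 - 1) * (q ^ 5 + 1) * (q ^ 6 - 1) * (q ^ 8 - 1) * (q ^ 9 + 1) * (q ^ 12 - 1)) :
    p ^ n ∣ q ^ 4 + 1 := by
  have : Fact p.Prime := ⟨hp⟩
  have hx : (q : ZMod p) ^ 4 + 1 = 0 := by
    have h1 := (ZMod.natCast_eq_zero_iff (q ^ 4 + 1) p).2 h
    push_cast at h1
    exact h1
  have h2 : (2 : ZMod p) ≠ 0 := by
    intro h3
    have h4 : ((2 : ℕ) : ZMod p) = 0 := by exact_mod_cast h3
    rw [ZMod.natCast_eq_zero_iff] at h4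
    exact hp2 ((Nat.prime_dvd_prime_iff_eq hp Nat.prime_two).1 h4)
  have c0 : (p ^ n).Coprime (q ^ 36) := by
    apply Nat.Coprime.pow_right
    refine cop hp (not_dvd_z fun h3 => h2 ?_)
    linear_combination 2 * hx - 2 * (q : ZMod p) ^ 3 * h3
  have c2 : (p ^ n).Coprime (q ^ 2 - 1) := by
    refine cop hp (not_dvd_z fun h3 => h2 ?_)
    rw [z_sub hq1] at h3
    linear_combination hx - ((q : ZMod p) ^ 2 + 1) * h3
  have c5 : (p ^ n).Coprime (q ^ 5 + 1) := by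
    refine cop hp (not_dvd_z fun h3 => h2 ?_)
    push_cast at h3
    have h4 : (q : ZMod p) = 1 := by linear_combination (q : ZMod p) * hx - h3
    rw [h4] at hx
    linear_combination hx
  have c6 : (p ^ n).Coprime (q ^ 6 - 1) := by
    refine cop hp (not_dvd_z fun h3 => h2 ?_)
    rw [z_sub hq1] at h3
    have h4 : (q : ZMod p) ^ 2 = -1 := by linear_combination (q : ZMod p) ^ 2 * hx - h3
    linear_combination hx - ((q : ZMod p) ^ 2 - 1) * h4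
  have c4 : (p ^ n).Coprime (q ^ 4 - 1) := by
    refine cop hp (not_dvd_z fun h3 => h2 ?_)
    rw [z_sub hq1] at h3
    linear_combination hx - h3
  have c9 : (p ^ n).Coprime (q ^ 9 + 1) := by
    refine cop hp (not_dvd_z fun h3 => h2 ?_)
    push_cast at h3
    have h4 : (q : ZMod p) = -1 := by
      linear_combination h3 - ((q : ZMod p) ^ 5 - (q : ZMod p)) * hx
    rw [h4] at hx
    linear_combination hx
  have c12 : (p ^ n).Coprime (q ^ 12 - 1) := by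
    refine cop hp (not_dvd_z fun h3 => h2 ?_)
    rw [z_sub hq1] at h3
    linear_combination ((q : ZMod p) ^ 8 - (q : ZMod p) ^ 4 + 1) * hx - h3
  have e8 : q ^ 8 - 1 = (q ^ 4 - 1) * (q ^ 4 + 1) := by
    obtain ⟨x, hx⟩ := Nat.exists_eq_add_of_le (one_le hq1 4)
    have e : q ^ 8 = (q ^ 4) ^ 2 := by ring
    rw [e, hx, Nat.add_sub_cancel_left]
    apply Nat.sub_eq_of_eq_add
    ring
  rw [e8] at hn
  have h1 : p ^ n ∣ q ^ 36 * (q ^ 2 - 1) * (q ^ 5 + 1) * (q ^ 6 - 1) * ((q ^ 4 - 1) * (q ^ 4 + 1)) :=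
    c9.dvd_of_dvd_mul_right (c12.dvd_of_dvd_mul_right hn)
  have h3 := (((((c0.mul_right c2).mul_right c5).mul_right c6))).dvd_of_dvd_mul_left h1
  exact c4.dvd_of_dvd_mul_left h3

theorem part_two {p q n : ℕ} (hp : p.Prime) (hq1 : 1 ≤ q) (h : p ∣ q ^ 5 + 1) (h1 : ¬ p ∣ q + 1)
    (hn : p ^ n ∣ q ^ 36 * (q ^ 2 - 1) * (q ^ 5 + 1) * (q ^ 6 - 1) * (q ^ 8 - 1) * (q ^ 9 + 1) * (q ^ 12 - 1)) :
    p ^ n ∣ q ^ 5 + 1 := by
  have : Fact p.Prime := ⟨hp⟩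
  have hx : (q : ZMod p) ^ 5 + 1 = 0 := by
    have h1 := (ZMod.natCast_eq_zero_iff (q ^ 5 + 1) p).2 h
    push_cast at h1
    exact h1
  have h2 : (q : ZMod p) + 1 ≠ 0 := by
    intro h3
    apply h1
    rw [← ZMod.natCast_eq_zero_iff]
    push_cast
    exact h3
  have c0 : (p ^ n).Coprime (q ^ 36) := by
    apply Nat.Coprime.pow_right
    refine cop hp (not_dvd_z fun h3 => ?_)
    rw [h3] at hx
    norm_num at hx
  have k2 : (q : ZMod p) ^ 2 - 1 ≠ 0 := fun h3 => h2 (by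
    linear_combination hx - ((q : ZMod p) ^ 3 + (q : ZMod p)) * h3)
  have c2 : (p ^ n).Coprime (q ^ 2 - 1) := by
    refine cop hp (not_dvd_z fun h3 => k2 ?_)
    rw [z_sub hq1] at h3
    exact h3
  have c6 : (p ^ n).Coprime (q ^ 6 - 1) := by
    refine cop hp (not_dvd_z fun h3 => h2 ?_)
    rw [z_sub hq1] at h3
    linear_combination (q : ZMod p) * hx - h3
  have c8 : (p ^ n).Coprime (q ^ 8 - 1) := by
    refine cop hp (not_dvd_z fun h3 => k2 ?_)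
    rw [z_sub hq1] at h3
    have h4 : (q : ZMod p) ^ 3 + 1 = 0 := by linear_combination (q : ZMod p) ^ 3 * hx - h3
    linear_combination (q : ZMod p) ^ 2 * h4 - hx
  have c9 : (p ^ n).Coprime (q ^ 9 + 1) := by
    refine cop hp (not_dvd_z fun h3 => h2 ?_)
    push_cast at h3
    have h4 : (q : ZMod p) ^ 4 - 1 = 0 := by linear_combination (q : ZMod p) ^ 4 * hx - h3
    linear_combination hx - (q : ZMod p) * h4
  have c12 : (p ^ n).Coprime (q ^ 12 - 1) := by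
    refine cop hp (not_dvd_z fun h3 => k2 ?_)
    rw [z_sub hq1] at h3
    linear_combination h3 - ((q : ZMod p) ^ 7 - (q : ZMod p) ^ 2) * hx
  have h3 : p ^ n ∣ q ^ 36 * (q ^ 2 - 1) * (q ^ 5 + 1) := c6.dvd_of_dvd_mul_right (c8.dvd_of_dvd_mul_right
    (c9.dvd_of_dvd_mul_right (c12.dvd_of_dvd_mul_right hn)))
  exact (c0.mul_right c2).dvd_of_dvd_mul_left h3

/-! ### the tori -/

section

variable {K : Type u} [Field K] [Fintype K] {q : ℕ}

/-- an element of a cyclic torus -/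
theorem exists_elt' (hq : IsPrimePow q) (hK : Fintype.card K = q ^ 2) {chain : List (Fin 6 × WData.Mat 6)}
    {Am Th V B : WData.Mat 6} {c : Fin 6 → ℤ} (hA : ∀ i j, Am i j = cartanOf chevE6 6 i j)
    (hch : WData.ChainOK Am chain)
    (hT : ∀ j, WData.hd chain ((![5, 1, 4, 3, 2, 0] : Fin 6 → Fin 6) j) = Th j) (hc : WData.CycOK 6 Th V B c) {N : ℕ}
    (hfN : fN c (q : ℤ) = N) (hqN : q.Coprime N) (hN0 : N ≠ 0) :
    ∃ (x : ↥(twistedE6 K q)) (d' : ℕ), d' ∣ N ∧ d' ∣ Nat.gcd 3 (q + 1) ∧ orderOf x = N / d' := by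
  obtain ⟨r, e', hrF, hcF, hck, -, hre, hk⟩ := exists_closure hK
  obtain ⟨r', e, hr', he, hqe'⟩ := id hq
  have hrr : r' = r := by
    have h1 : r' ∣ r ^ e' := by
      rw [← hre, ← hqe']
      exact dvd_pow (dvd_pow_self r' he.ne') (by norm_num)
    exact (Nat.prime_dvd_prime_iff_eq hr'.nat_prime hrF.out).1 (hr'.nat_prime.dvd_of_dvd_pow h1)
  subst hrr
  have hWf : Finite CoxeterMatrix.E₆.Group := finite_W RGDTwE6.hp CoxeterMatrix.E₆.toCoxeterSystem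
  obtain ⟨d', z, t, u, x0, T⟩ := exists_tor6 (algebraMap K (AlgebraicClosure K)) hq hK
    CoxeterMatrix.E₆.toCoxeterSystem hk hqe'.symm (chain.map Prod.fst)
    (WData.cyc_of (lin_flip CoxeterMatrix.E₆.toCoxeterSystem hA hch hT) hc) hfN hqN hN0
  exact ⟨x0, d', T.hdN, T.hd, T.hord⟩

theorem cast_one {q : ℕ} (hq1 : 1 ≤ q) : (((q ^ 4 + 1) * (q ^ 2 - 1) : ℕ) : ℤ) =
    -1 + (q : ℤ) ^ 2 - (q : ℤ) ^ 4 + (q : ℤ) ^ 6 := by
  push_cast [Nat.cast_sub (one_le hq1 2)]; ring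

theorem cast_two {q : ℕ} (hq1 : 1 ≤ q) : (((q ^ 5 + 1) * (q - 1) : ℕ) : ℤ) =
    ((q : ℤ) ^ 5 + 1) * ((q : ℤ) - 1) := by
  push_cast [Nat.cast_sub hq1]; ring

/-- the order of the element of the torus -/
theorem dvd_ord {p d' N M n : ℕ} (hp : p.Prime) (hdN : d' ∣ N) (hd : d' ∣ Nat.gcd 3 (q + 1)) (h1 : ¬ p ∣ q + 1)
    (hM : M ∣ N) (hn : p ^ n ∣ M) : p ^ n ∣ N / d' := by
  have h2 : (p ^ n).Coprime d' := cop hp fun h3 => h1 ((h3.trans hd).trans (Nat.gcd_dvd_right _ _))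
  apply h2.dvd_of_dvd_mul_left
  rw [Nat.mul_div_cancel' hdN]
  exact hn.trans hM

/-- `p ∣ q⁴ + 1` -/
theorem cyc_one (hq : IsPrimePow q) (hK : Fintype.card K = q ^ 2) {p : ℕ} (hp : p.Prime) (hp2 : p ≠ 2)
    (h : p ∣ q ^ 4 + 1) :
    ∃ x : ↥(twistedE6 K q), ∀ n : ℕ, p ^ n ∣ Nat.card ↥(twistedE6 K q) → p ^ n ∣ orderOf x := by
  have hq1 := hq.one_lt.le
  have h4 : 2 ^ 2 ≤ q ^ 2 := Nat.pow_le_pow_left hq.two_le 2
  have hco : q.Coprime ((q ^ 4 + 1) * (q ^ 2 - 1)) := by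
    rw [← Nat.isCoprime_iff_coprime, cast_one hq1]
    exact ⟨(q : ℤ) - (q : ℤ) ^ 3 + (q : ℤ) ^ 5, -1, by ring⟩
  obtain ⟨x, d', hdN, hd, hx⟩ := exists_elt' hq hK H83.TwEC.hA H83.TwEC.chainOK H83.TwEC.hd_pi H83.TwEC.cycOK
    (N := (q ^ 4 + 1) * (q ^ 2 - 1)) (by rw [H83.TwEC.fN_eq, cast_one hq1]) hco
    (Nat.mul_ne_zero (by omega) (by omega))
  refine ⟨x, fun n hn => ?_⟩
  have h1 : ¬ p ∣ q + 1 := by
    intro h1
    have h2 : (p : ℤ) ∣ (q : ℤ) ^ 4 + 1 := by exact_mod_cast Int.natCast_dvd_natCast.2 h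
    have h3 : (p : ℤ) ∣ (q : ℤ) + 1 := by exact_mod_cast Int.natCast_dvd_natCast.2 h1
    have h5 : (p : ℤ) ∣ 2 := by
      have e : (2 : ℤ) = ((q : ℤ) ^ 4 + 1) - ((q : ℤ) + 1) * ((q : ℤ) ^ 3 - (q : ℤ) ^ 2 + (q : ℤ) - 1) := by ring
      rw [e]
      exact dvd_sub h2 (h3.mul_right _)
    exact hp2 ((Nat.prime_dvd_prime_iff_eq hp Nat.prime_two).1 (by exact_mod_cast h5))
  have h2 := part_one hp hp2 hq1 h (by
    rw [← Cfsg.Agent.S1066.result hq hK]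
    exact hn.mul_left _)
  rw [hx]
  exact dvd_ord hp hdN hd h1 (Dvd.intro _ rfl) h2

/-- `p ∣ q⁵ + 1`, `p ∤ q + 1` -/
theorem cyc_two (hq : IsPrimePow q) (hK : Fintype.card K = q ^ 2) {p : ℕ} (hp : p.Prime)
    (h : p ∣ q ^ 5 + 1) (h1 : ¬ p ∣ q + 1) :
    ∃ x : ↥(twistedE6 K q), ∀ n : ℕ, p ^ n ∣ Nat.card ↥(twistedE6 K q) → p ^ n ∣ orderOf x := by
  have hq1 := hq.one_lt.le
  have hq2 := hq.two_le
  have hco : q.Coprime ((q ^ 5 + 1) * (q - 1)) := by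
    rw [← Nat.isCoprime_iff_coprime, cast_two hq1]
    exact ⟨1 - (q : ℤ) ^ 4 + (q : ℤ) ^ 5, -1, by ring⟩
  obtain ⟨x, d', hdN, hd, hx⟩ := exists_elt' hq hK TwED.hA TwED.chainOK TwED.hd_pi TwED.cycOK
    (N := (q ^ 5 + 1) * (q - 1)) (by rw [TwED.fN_eq, cast_two hq1]) hco (Nat.mul_ne_zero (by omega) (by omega))
  refine ⟨x, fun n hn => ?_⟩
  have h2 := part_two hp hq1 h h1 (by
    rw [← Cfsg.Agent.S1066.result hq hK]
    exact hn.mul_left _)
  rw [hx]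
  exact dvd_ord hp hdN hd h1 (Dvd.intro _ rfl) h2

end

end Cfsg.Agent.H781.RatTE6
end

-- part: H781/RatTE6/Row
section
/-!
# S4891, the row of `²E₆(q)` (helper781)

`row_te6` : the field `te6` of `H145.BR.Rows`. The witness is the Steinberg character; for `p ∣ q⁴ + 1` and for
`p ∣ q⁵ + 1`, `p ∤ q + 1`, the Sylow `p`-subgroups are cyclic.
-/

set_option autoImplicit false

namespace Cfsg.Agent.H781.RatTE6

open Cfsg Cfsg.Lie Cfsg.Agent.H145.BR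
open Cfsg.Agent.ChevalleyStructure.TwE6Basic (exists_frob)

/-- **The row of `²E₆(q)`.** -/
theorem row_te6 {p : ℕ} [hp : Fact p.Prime] (hp2 : p ≠ 2) : RowForT p (fun X _ => ∃ (K : Type) (_ : Field K)
    (_ : Fintype K) (q : ℕ), (p : K) ≠ 0 ∧ IsPrimePow q ∧ Fintype.card K = q ^ 2 ∧ Nonempty (X ≃* Lie.twistedE6 K q)) := by
  intro X _ _ _ hna hd hc ⟨K, _, _, q, hpK, hq, hK, ⟨e⟩⟩
  obtain ⟨r, hrK⟩ := CharP.exists K
  have hr : r.Prime := CharP.char_is_prime K r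
  have hpr : p ≠ r := by
    rintro rfl
    exact hpK (CharP.cast_eq_zero K p)
  obtain ⟨f, hf, hqf⟩ : ∃ f : ℕ, f ≠ 0 ∧ q = r ^ f := by
    obtain ⟨s, f, hs, hf, rfl⟩ := (isPrimePow_nat_iff q).1 hq
    have h1 : (r : ℕ) ∣ Fintype.card K := by
      obtain ⟨n, -, h2⟩ := FiniteField.card K r
      rw [h2]
      exact dvd_pow_self r n.ne_zero
    rw [hK] at h1
    have h2 : r = s := (Nat.prime_dvd_prime_iff_eq hr hs).1 (hr.dvd_of_dvd_pow (hr.dvd_of_dvd_pow h1))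
    exact ⟨f, hf.ne', by rw [h2]⟩
  obtain ⟨φ, hφ, hqq⟩ := exists_frob hq hK
  have hfin : Finite ↥(twistedE6 K q) := Finite.of_equiv X e.toEquiv
  have hcard : Nat.card X = Nat.card ↥(twistedE6 K q) := Nat.card_congr e.toEquiv
  -- an element with the full `p`-part contradicts the hypothesis
  have key : (∃ x : ↥(twistedE6 K q), ∀ n : ℕ, p ^ n ∣ Nat.card ↥(twistedE6 K q) → p ^ n ∣ orderOf x) → False := by
    rintro ⟨x, hx⟩
    obtain ⟨P, hP⟩ := exists_isCyclic (p := p) (e.symm x) (fun n hn => by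
      rw [MulEquiv.orderOf_eq]
      exact hx n (by rw [← hcard]; exact hn))
    exact hc P hP
  refine RowInt.rowT (rowInt_congr e ?_)
  by_cases h1 : p ∣ q - 1
  · exact row_A hr hf hqf hφ hqq hK hp2 hpr h1
  by_cases h4 : p ∣ q ^ 4 + 1
  · exact (key (cyc_one hq hK hp.out hp2 h4)).elim
  by_cases h5 : p ∣ q ^ 5 + 1 → p ∣ q + 1
  · exact row_B hr hf hqf hφ hqq hK hpr (by rw [← hcard]; exact hd) h1 h4 h5
  · rw [Classical.not_imp] at h5
    exact (key (cyc_two hq hK hp.out h5.1 h5.2)).elim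

end Cfsg.Agent.H781.RatTE6
end
end

-- part: H35/BR/OPlusCyc
section
set_option linter.all false

/-!
# S4891, field `oplus`, (i) (helper35): cyclic Sylow subgroups of `PΩ⁺_{2w}(q)`, `w = 2d - 1, 2d - 2`
-/

set_option autoImplicit false

namespace Cfsg.Agent.H35.BR

open Cfsg Subgroup

/-- cyclic Sylow `p`-subgroups of `PΩ⁺_{2w}(q)` for `d` odd, `d ≤ w < 2d` -/
theorem cyc_plus' {F : Type} [Field F] [Fintype F] {p : ℕ} [hp : Fact p.Prime] {w : ℕ} (hw : 4 ≤ w)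
    (hodd : Odd (orderOf ((Fintype.card F : ℕ) : ZMod p))) (h1 : w < 2 * orderOf ((Fintype.card F : ℕ) : ZMod p))
    (h2 : orderOf ((Fintype.card F : ℕ) : ZMod p) ≤ w) (P : Sylow p (POmega F (quadFormPlus w F))) :
    IsCyclic ↥(P : Subgroup (POmega F (quadFormPlus w F))) := by
  classical
  exact Cfsg.Agent.H953.Dg.cyc_oplus hw ⟨hp.out, Or.inr ⟨hodd, h1, h2⟩⟩ P P.isPGroup'

/-- **(i) CYCLIC** -/
theorem cyc_plus {F : Type} [Field F] [Fintype F] {p : ℕ} [hp : Fact p.Prime] {w d : ℕ} (hw : 4 ≤ w)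
    (hd : orderOf ((Fintype.card F : ℕ) : ZMod p) = d) (hodd : Odd d) (hwd : w = 2 * d - 1 ∨ w = 2 * d - 2)
    (P : Sylow p (POmega F (quadFormPlus w F))) : IsCyclic ↥(P : Subgroup (POmega F (quadFormPlus w F))) := by
  subst hd
  exact cyc_plus' hw hodd (by omega) (by omega) P

end Cfsg.Agent.H35.BR
end
end
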